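import Cfsg.Agent.M24Type.Trace
import Cfsg.Agent.ProdFusion.Main
import Mathlib.GroupTheory.FixedPointFree
import Mathlib.GroupTheory.Transfer

set_option autoImplicit false
set_option linter.unusedSectionVars false

/-!
With a Sylow 2-subgroup of the type of M24 modulo its centre and no odd normal subgroup, the abelian
subgroup of order 64 is normal.
-/

namespace Cfsg.Agent.M24Type

open Subgroup
open scoped Classical

theorem trans_spec {m : ℕ} (hm : m = 1 ∨ m = 8) {i : ℕ} (hi : i < 8) (hinv : isInv i = true)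
    {a b c : ℕ} (ha : a < 8) (hb : b < 8) (hc : c < 8)
    (hinj : ∀ x < 8, lin (a * m) (b * m) (c * m) (a * m) (b * m) (c * m) (x * m) = 0 → x = 0)
    (hcom : ∀ x < 8, lin (a * m) (b * m) (c * m) (a * m) (b * m) (c * m) (act i (x * m)) =
      act i (lin (a * m) (b * m) (c * m) (a * m) (b * m) (c * m) (x * m))) :
    ∀ j < 3, it8 (lin (a * m) (b * m) (c * m) (a * m) (b * m) (c * m)) (2 ^ j * m) = 2 ^ j * m := by
  have h := transOK_true
  simp only [transOK, List.all_eq_true, List.mem_range, Bool.or_eq_true, Bool.not_eq_true',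
    List.any_eq_true, Bool.and_eq_true, List.mem_cons, List.not_mem_nil, or_false] at h
  have h' := (h m hm i hi).resolve_left (by simp [hinv]) a ha b hb c hc
  rcases h' with (⟨x, hx, hx0, hz⟩ | ⟨x, hx, hne⟩) | h'
  · have := hinj x hx (Nat.eq_of_beq_eq_true hz)
    subst this
    simp at hx0
  · rw [hcom x hx] at hne
    simp at hne
  · exact fun j hj => Nat.eq_of_beq_eq_true (h' j hj)

theorem mul_act_mem : ∀ m ∈ [1, 8], ∀ i < 8, ∀ x < 8, ∃ y < 8, act i (x * m) = y * m := by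
  decide +kernel

theorem lin_mul : ∀ m ∈ [1, 8], ∀ a < 8, ∀ b < 8, ∀ c < 8, ∀ j < 3,
    lin (a * m) (b * m) (c * m) (a * m) (b * m) (c * m) (2 ^ j * m) = [a, b, c].getD j 0 * m := by
  decide +kernel

theorem mul_spec8 : ∀ x < 8, ∀ y < 8, (x ^^^ y) * 8 = x * 8 ^^^ y * 8 := by decide +kernel

theorem xor_lt8 : ∀ x < 8, ∀ y < 8, x ^^^ y < 8 := by decide +kernel

theorem bits_low : ∀ x < 8, (bit (x * 1) 3 = 0 ∧ bit (x * 1) 4 = 0 ∧ bit (x * 1) 5 = 0) ∧
    (bit (x * 8) 0 = 0 ∧ bit (x * 8) 1 = 0 ∧ bit (x * 8) 2 = 0) := by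
  decide +kernel

theorem lin_range8 : ∀ m ∈ [1, 8], ∀ x < 8,
    x * m = lin (1 * m) (2 * m) (4 * m) (1 * m) (2 * m) (4 * m) (x * m) := by
  decide +kernel

variable {G : Type*} [Group G] [Finite G] {A : Subgroup G} {S : Sylow 2 G}

namespace Frame

variable (F : Frame (S : Subgroup G) A)

include F

/-- Conjugation inside `A` is controlled by the normaliser. -/
theorem fusion {a g : G} (ha : a ∈ A) (hg : g * a * g⁻¹ ∈ A) :
    ∃ n ∈ normalizer (A : Set G), n * a * n⁻¹ = g * a * g⁻¹ := by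
  obtain ⟨k, hk, hkg⟩ := F.exists_normalizing (K := centralizer {g * a * g⁻¹}) (g := g)
    (fun b hb => mem_centralizer_singleton_iff.2 (F.comm b hb _ hg))
    (fun b hb => mem_centralizer_singleton_iff.2 (by
      calc g * b * g⁻¹ * (g * a * g⁻¹) = g * (b * a) * g⁻¹ := by group
        _ = g * (a * b) * g⁻¹ := by rw [F.comm b hb a ha]
        _ = _ := by group))
  refine ⟨k * g, hkg, ?_⟩
  rw [show k * g * a * (k * g)⁻¹ = k * (g * a * g⁻¹) * k⁻¹ by group,
    mem_centralizer_singleton_iff.1 hk, mul_assoc, mul_inv_cancel, mul_one]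

/-- An idempotent commuting with the normaliser and nonzero on one of the two summands. -/
structure Split (P : ℕ → ℕ) (m : ℕ) : Prop where
  hlin : Lin P
  comm : ∀ h ∈ normalizer (A : Set G), ∀ n < 64, P (F.pn h n) = F.pn h (P n)
  idem : ∀ n < 64, P (P n) = P n
  hm : m = 1 ∨ m = 8
  inj : ∀ x < 8, x ≠ 0 → P (x * m) ≠ 0
  ker : ∀ i < 8, i ≠ 0 → ∃ n < 64, P n = 0 ∧ act i n ≠ n

/-- The subgroup of fixed vectors. -/
def imgSub (P : ℕ → ℕ) (hP : Lin P) : Subgroup G where
  carrier := {a | ∃ n < 64, P n = n ∧ enc F.v n = a}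
  one_mem' := ⟨0, by norm_num, hP.zero, F.enc_zero⟩
  mul_mem' := by
    rintro _ _ ⟨n, hn, h1, rfl⟩ ⟨k, hk, h2, rfl⟩
    exact ⟨n ^^^ k, xor_lt hn hk, by rw [hP.2 n hn k hk, h1, h2], F.enc_xor n k⟩
  inv_mem' := by
    rintro _ ⟨n, hn, h1, rfl⟩
    exact ⟨n, hn, h1, (inv_eq_of_mul_eq_one_right (F.sq _ (F.enc_mem n))).symm⟩

theorem imgSub_le (P : ℕ → ℕ) (hP : Lin P) : F.imgSub P hP ≤ A := by
  rintro _ ⟨n, -, -, rfl⟩
  exact F.enc_mem n

theorem imgSub_closed {P : ℕ → ℕ} (hP : Lin P)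
    (hcomm : ∀ h ∈ normalizer (A : Set G), ∀ n < 64, P (F.pn h n) = F.pn h (P n)) :
    Cfsg.IsStronglyClosed (F.imgSub P hP) (S : Subgroup G) := by
  refine ⟨(F.imgSub_le P hP).trans F.hle, ?_⟩
  rintro x ⟨n, hn, hfix, rfl⟩ g hg
  obtain ⟨h, hh, he⟩ := F.fusion (F.enc_mem n) (F.strongly_closed (F.enc_mem n) hg)
  refine ⟨F.pn h n, F.pn_lt h n, by rw [hcomm h hh n hn, hfix], ?_⟩
  rw [F.enc_pn hh, he]

variable {F}

theorem Split.image_eq {P : ℕ → ℕ} {m : ℕ} (hP : F.Split P m)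
    (hother : ∃ m', (m' = 1 ∨ m' = 8) ∧ ∀ x < 8, x ≠ 0 → P (x * m') ≠ x * m') :
    ∀ n < 64, P n = n → ∃ x < 8, P (x * m) = n := by
  obtain ⟨m', hm', hinj'⟩ := hother
  intro n hn hfix
  have hml : ∀ {k : ℕ}, k = 1 ∨ k = 8 → ∀ x < 8, x * k < 64 := by
    rintro k (rfl | rfl) x hx <;> omega
  have hx : ∀ {k : ℕ}, k = 1 ∨ k = 8 → ∀ x < 8, ∀ y < 8, (x ^^^ y) * k = x * k ^^^ y * k := by
    rintro k (rfl | rfl) x hx y hy
    · simp
    · exact mul_spec8 x hx y hy
  -- the vectors `P u + (w + P w)` exhaust all 64 vectors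
  let f : Fin 8 × Fin 8 → Fin 64 := fun p =>
    ⟨P (p.1 * m) ^^^ ((p.2 : ℕ) * m' ^^^ P (p.2 * m')),
      xor_lt (hP.hlin.1 _ (hml hP.hm _ p.1.2))
        (xor_lt (hml hm' _ p.2.2) (hP.hlin.1 _ (hml hm' _ p.2.2)))⟩
  have hsplit : ∀ u < 8, ∀ w < 8,
      P (P (u * m) ^^^ (w * m' ^^^ P (w * m'))) = P (u * m) := by
    intro u hu w hw
    have h1 := hml hP.hm u hu
    have h2 := hml hm' w hw
    rw [hP.hlin.2 _ (hP.hlin.1 _ h1) _ (xor_lt h2 (hP.hlin.1 _ h2)),
      hP.hlin.2 _ h2 _ (hP.hlin.1 _ h2), hP.idem _ h1, hP.idem _ h2, Nat.xor_self, Nat.xor_zero]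
  have hf : Function.Injective f := by
    rintro ⟨u, w⟩ ⟨u', w'⟩ h
    have he : P (u * m) ^^^ ((w : ℕ) * m' ^^^ P (w * m')) =
        P (u' * m) ^^^ ((w' : ℕ) * m' ^^^ P (w' * m')) := congrArg Fin.val h
    have h1 : P (u * m) = P (u' * m) := by
      rw [← hsplit u u.2 w w.2, he, hsplit u' u'.2 w' w'.2]
    have hu : (u : ℕ) ^^^ u' = 0 := by
      by_contra hne
      refine hP.inj _ (xor_lt8 _ u.2 _ u'.2) hne ?_
      rw [hx hP.hm _ u.2 _ u'.2, hP.hlin.2 _ (hml hP.hm _ u.2) _ (hml hP.hm _ u'.2), h1,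
        Nat.xor_self]
    rw [h1] at he
    have h2 : (w : ℕ) * m' ^^^ P (w * m') = (w' : ℕ) * m' ^^^ P (w' * m') :=
      Nat.xor_left_injective.eq_iff.1 (by rwa [Nat.xor_comm _ (P (↑u' * m)),
        Nat.xor_comm _ (P (↑u' * m))])
    have hw : (w : ℕ) ^^^ w' = 0 := by
      by_contra hne
      refine hinj' _ (xor_lt8 _ w.2 _ w'.2) hne ?_
      rw [hx hm' _ w.2 _ w'.2, hP.hlin.2 _ (hml hm' _ w.2) _ (hml hm' _ w'.2)]
      rw [← Nat.xor_eq_zero_iff] at h2 ⊢
      rw [← h2]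
      simp only [Nat.xor_assoc, Nat.xor_comm, Nat.xor_left_comm]
    exact Prod.ext (Fin.ext (Nat.xor_eq_zero_iff.1 hu)) (Fin.ext (Nat.xor_eq_zero_iff.1 hw))
  have hb : Function.Bijective f :=
    (Fintype.bijective_iff_injective_and_card f).2 ⟨hf, by simp⟩
  obtain ⟨⟨u, w⟩, h⟩ := hb.2 ⟨n, hn⟩
  have he : P (u * m) ^^^ ((w : ℕ) * m' ^^^ P (w * m')) = n := congrArg Fin.val h
  exact ⟨u, u.2, by rw [← hsplit u u.2 w w.2, he, hfix]⟩

variable (F)

theorem pn_pow {k : G} (hk : k ∈ normalizer (A : Set G)) :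
    ∀ j : ℕ, ∀ n < 64, F.pn (k ^ j) n = (F.pn k)^[j] n := by
  intro j
  induction j with
  | zero => intro n hn; rw [pow_zero, F.pn_one hn]; rfl
  | succ j ih =>
    intro n hn
    rw [pow_succ, F.pn_mul (pow_mem hk j) hk, ih _ (F.pn_lt _ _), Function.iterate_succ_apply]

variable {F}

/-- An element of the normaliser that fixes the kernel and commutes with an involution of the
quotient has its eighth power fixing everything. -/
theorem Split.pow_eight {P : ℕ → ℕ} {m : ℕ} (hP : F.Split P m)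
    (himg : ∀ n < 64, P n = n → ∃ x < 8, P (x * m) = n) {k : G}
    (hk : k ∈ normalizer (A : Set G)) (hker : ∀ n < 64, P n = 0 → F.pn k n = n) {i : ℕ}
    (hi : i < 8) (hinv : isInv i = true)
    (hcom : ∀ n < 64, F.pn k (act i n) = act i (F.pn k n))
    (hact : ∀ n < 64, P (act i n) = act i (P n)) :
    ∀ n < 64, F.pn (k ^ 8) n = n := by
  have hm := hP.hm
  have hmem : m ∈ [1, 8] := by rcases hm with rfl | rfl <;> simp
  have hml : ∀ x < 8, x * m < 64 := by
    intro x hx; rcases hm with rfl | rfl <;> omega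
  have hj8 : ∀ j < 3, 2 ^ j < 8 := fun j hj =>
    (Nat.pow_lt_pow_right one_lt_two hj).trans_eq (by norm_num)
  have hpre : ∀ j < 3, ∃ a < 8, P (a * m) = F.pn k (P (2 ^ j * m)) := fun j hj =>
    himg _ (F.pn_lt _ _) (by
      rw [hP.comm k hk _ (hP.hlin.1 _ (hml _ (hj8 j hj))), hP.idem _ (hml _ (hj8 j hj))])
  obtain ⟨a, ha, ea⟩ := hpre 0 (by norm_num)
  obtain ⟨b, hb, eb⟩ := hpre 1 (by norm_num)
  obtain ⟨c, hc, ec⟩ := hpre 2 (by norm_num)
  set f := lin (a * m) (b * m) (c * m) (a * m) (b * m) (c * m) with hf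
  have hLl : Lin (fun x => f x) := by
    constructor
    · intro n _
      exact xor_lt (xor_lt (xor_lt (xor_lt (xor_lt (mul_bit_lt (hml a ha) _ _)
        (mul_bit_lt (hml b hb) _ _)) (mul_bit_lt (hml c hc) _ _)) (mul_bit_lt (hml a ha) _ _))
        (mul_bit_lt (hml b hb) _ _)) (mul_bit_lt (hml c hc) _ _)
    · intro n hn n' hn'
      have key : ∀ p i, bit (n ^^^ n') i * p = (bit n i * p) ^^^ (bit n' i * p) := by
        intro p i
        rw [bit_xor]
        rcases Nat.le_one_iff_eq_zero_or_eq_one.1 (bit_le n i) with h | h <;>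
          rcases Nat.le_one_iff_eq_zero_or_eq_one.1 (bit_le n' i) with h' | h' <;> simp [h, h']
      simp only [hf, lin, key]
      simp only [Nat.xor_assoc, Nat.xor_comm, Nat.xor_left_comm]
  -- `P` carries `f` to the action of `k`
  have hdiag : ∀ x < 8, P (f (x * m)) = F.pn k (P (x * m)) := by
    intro x hx
    have g1 : Lin (fun y => P (f y)) := hP.hlin.comp hLl
    have g2 : Lin (fun y => F.pn k (P y)) := (F.lin_pn hk).comp hP.hlin
    have hbase : ∀ j < 3, P (f (2 ^ j * m)) = F.pn k (P (2 ^ j * m)) := by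
      intro j hj
      rw [hf, lin_mul m hmem a ha b hb c hc j hj]
      interval_cases j
      · exact ea
      · exact eb
      · exact ec
    have e0 := hbase 0 (by norm_num)
    have e1 := hbase 1 (by norm_num)
    have e2 := hbase 2 (by norm_num)
    rcases hm with rfl | rfl
    · norm_num at e0 e1 e2
      simp only [mul_one]
      have hx64 : x < 64 := by omega
      rw [show P (f x) = _ from g1.eq_lin hx64, show F.pn k (P x) = _ from g2.eq_lin hx64]
      have hb3 : bit x 3 = 0 ∧ bit x 4 = 0 ∧ bit x 5 = 0 := by simpa using (bits_low x hx).1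
      simp only [lin, hb3.1, hb3.2.1, hb3.2.2, zero_mul, e0, e1, e2]
    · norm_num at e0 e1 e2
      have hx64 : x * 8 < 64 := by omega
      rw [show P (f (x * 8)) = _ from g1.eq_lin hx64,
        show F.pn k (P (x * 8)) = _ from g2.eq_lin hx64]
      have hb3 := (bits_low x hx).2
      simp only [lin, hb3.1, hb3.2.1, hb3.2.2, zero_mul, e0, e1, e2]
  have hPinj : ∀ x < 8, ∀ y < 8, P (x * m) = P (y * m) → x = y := by
    intro x hx y hy h
    by_contra hne
    refine hP.inj _ (xor_lt8 x hx y hy) (fun h0 => hne (Nat.xor_eq_zero_iff.1 h0)) ?_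
    have : (x ^^^ y) * m = x * m ^^^ y * m := by
      rcases hm with rfl | rfl
      · simp
      · exact mul_spec8 x hx y hy
    rw [this, hP.hlin.2 _ (hml x hx) _ (hml y hy), h, Nat.xor_self]
  have hfm : ∀ x < 8, ∃ y < 8, f (x * m) = y * m := by
    intro x hx
    have key : ∀ m ∈ [1, 8], ∀ a < 8, ∀ b < 8, ∀ n < 8, ∃ y < 8,
        (a * m ^^^ b * m) = y * m ∧ bit n 0 * (a * m) = (bit n 0 * a) * m := by
      intro m hm a ha b hb n _
      refine ⟨a ^^^ b, xor_lt8 a ha b hb, ?_, (mul_assoc _ _ _).symm⟩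
      simp only [List.mem_cons, List.not_mem_nil, or_false] at hm
      rcases hm with rfl | rfl
      · simp
      · exact (mul_spec8 a ha b hb).symm
    have hterm : ∀ {p : ℕ}, p < 8 → ∀ n i, ∃ y < 8, bit n i * (p * m) = y * m := by
      intro p hp n i
      refine ⟨bit n i * p, ?_, (mul_assoc _ _ _).symm⟩
      rcases Nat.le_one_iff_eq_zero_or_eq_one.1 (bit_le n i) with h | h <;> rw [h] <;> omega
    have hadd : ∀ {p q : ℕ}, (∃ y < 8, p = y * m) → (∃ y < 8, q = y * m) →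
        ∃ y < 8, p ^^^ q = y * m := by
      rintro p q ⟨y, hy, rfl⟩ ⟨z, hz, rfl⟩
      obtain ⟨w, hw, h, -⟩ := key m hmem y hy z hz 0 (by norm_num)
      exact ⟨w, hw, h⟩
    exact hadd (hadd (hadd (hadd (hadd (hterm ha _ _) (hterm hb _ _)) (hterm hc _ _))
      (hterm ha _ _)) (hterm hb _ _)) (hterm hc _ _)
  have hres := trans_spec (a := a) (b := b) (c := c) hm hi hinv ha hb hc (fun x hx h0 => by
      have h := hdiag x hx
      rw [hf, h0, hP.hlin.zero] at h
      have h' := F.enc_pn hk (P (x * m))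
      rw [← h, F.enc_zero] at h'
      have h'' := F.inj _ (hP.hlin.1 _ (hml x hx)) (conj_eq_one_iff.1 h'.symm)
      by_contra hne
      exact hP.inj x hx hne h'') (fun x hx => by
      obtain ⟨y, hy, hy'⟩ := mul_act_mem m hmem i hi x hx
      obtain ⟨z, hz, hz'⟩ := hfm x hx
      obtain ⟨z', hzz, hz''⟩ := hfm y hy
      obtain ⟨u, hu, hu'⟩ := mul_act_mem m hmem i hi z hz
      rw [hy', ← hf, hz'', hz', hu']
      congr 1
      refine hPinj z' hzz u hu ?_
      rw [← hz'', hdiag y hy, ← hy', hact _ (hml x hx), hcom _ (hP.hlin.1 _ (hml x hx)),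
        ← hdiag x hx, hz', ← hact _ (hml z hz), hu'])
  have hiter : ∀ j x, x < 8 → ∃ y < 8, f^[j] (x * m) = y * m ∧
      (F.pn k)^[j] (P (x * m)) = P (y * m) := by
    intro j
    induction j with
    | zero => exact fun x hx => ⟨x, hx, rfl, rfl⟩
    | succ j ih =>
      intro x hx
      obtain ⟨y, hy, h1, h2⟩ := ih x hx
      obtain ⟨z, hz, h3⟩ := hfm y hy
      refine ⟨z, hz, by rw [Function.iterate_succ_apply', h1, h3], ?_⟩
      rw [Function.iterate_succ_apply', h2, ← hdiag y hy, h3]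
  have himgfix : ∀ x < 8, F.pn (k ^ 8) (P (x * m)) = P (x * m) := by
    intro x hx
    obtain ⟨y, hy, h1, h2⟩ := hiter 8 x hx
    rw [F.pn_pow hk 8 _ (hP.hlin.1 _ (hml x hx)), h2]
    have h8 : it8 f (x * m) = x * m := by
      have hl : Lin (it8 f) := Lin.it8 hLl
      have e0 := hres 0 (by norm_num)
      have e1 := hres 1 (by norm_num)
      have e2 := hres 2 (by norm_num)
      conv_rhs => rw [lin_range8 m hmem x hx]
      rw [hl.eq_lin (hml x hx)]
      rcases hm with rfl | rfl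
      · norm_num at e0 e1 e2
        have hb3 := (bits_low x hx).1
        simp only [lin, hb3.1, hb3.2.1, hb3.2.2, zero_mul, one_mul, mul_one] at *
        rw [← hf] at e0 e1 e2
        rw [e0, e1, e2]
        simp [hb3.1, hb3.2.1, hb3.2.2]
      · norm_num at e0 e1 e2
        have hb3 := (bits_low x hx).2
        simp only [lin, hb3.1, hb3.2.1, hb3.2.2, zero_mul, one_mul] at *
        rw [← hf] at e0 e1 e2
        rw [e0, e1, e2]
    exact congrArg P (h1.symm.trans h8)
  intro n hn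
  have hk8 := pow_mem hk 8
  have hd : n ^^^ P n < 64 := xor_lt hn (hP.hlin.1 n hn)
  have hd0 : P (n ^^^ P n) = 0 := by
    rw [hP.hlin.2 n hn _ (hP.hlin.1 n hn), hP.idem n hn, Nat.xor_self]
  have h1 : F.pn (k ^ 8) (n ^^^ P n) = n ^^^ P n := by
    rw [F.pn_pow hk 8 _ hd]
    exact (Function.IsFixedPt.iterate (hker _ hd hd0) 8)
  have h2 : F.pn (k ^ 8) (P n) = P n := by
    obtain ⟨x, hx, hx'⟩ := himg _ (hP.hlin.1 n hn) (hP.idem n hn)
    rw [← hx']
    exact himgfix x hx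
  have e : n = (n ^^^ P n) ^^^ P n := by rw [Nat.xor_assoc, Nat.xor_self, Nat.xor_zero]
  conv_lhs => rw [e, (F.lin_pn hk8).2 _ hd _ (hP.hlin.1 n hn), h1, h2]
  exact e.symm

variable (F)

/-- The automorphism of `A` induced by an element of its normaliser. -/
noncomputable def rho (_F : Frame (S : Subgroup G) A) :
    ↥(normalizer (A : Set G)) →* MulAut A :=
  A.normalizerMonoidHom

theorem rho_eq_one {k : ↥(normalizer (A : Set G))} :
    F.rho k = 1 ↔ ∀ n < 64, F.pn k n = n := by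
  constructor
  · intro h n hn
    refine F.enc_inj (F.pn_lt _ _) hn ?_
    rw [F.enc_pn k.2]
    exact congrArg Subtype.val (DFunLike.congr_fun h ⟨_, F.enc_mem n⟩)
  · intro h
    refine MulEquiv.ext fun a => Subtype.ext ?_
    obtain ⟨n, hn, he⟩ := F.exists_enc a.2
    show (k : G) * a * (k : G)⁻¹ = a
    rw [← he, ← F.enc_pn k.2, h n hn]

variable {F}

/-- Elements of the normaliser fixing the kernel centralise `A`. -/
theorem Split.centralize {P : ℕ → ℕ} {m : ℕ} (hP : F.Split P m)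
    (himg : ∀ n < 64, P n = n → ∃ x < 8, P (x * m) = n) {k : G}
    (hk : k ∈ normalizer (A : Set G)) (hker : ∀ n < 64, P n = 0 → F.pn k n = n) :
    ∀ n < 64, F.pn k n = n := by
  haveI : Fact (Nat.Prime 2) := ⟨Nat.prime_two⟩
  set N := normalizer (A : Set G)
  let K0 : Subgroup N :=
    { carrier := {g | ∀ n < 64, P n = 0 → F.pn g n = n}
      one_mem' := fun n hn _ => F.pn_one hn
      mul_mem' := fun {g h} hg hh n hn h0 => by
        rw [Subgroup.coe_mul, F.pn_mul g.2 h.2, hh n hn h0, hg n hn h0]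
      inv_mem' := fun {g} hg n hn h0 => by
        have h := F.pn_mul (inv_mem g.2) g.2 n
        rw [inv_mul_cancel, F.pn_one hn, hg n hn h0] at h
        exact h.symm }
  have hK0n : ∀ g ∈ K0, ∀ h : N, h * g * h⁻¹ ∈ K0 := by
    intro g hg h n hn h0
    have hy : P (F.pn (h : G)⁻¹ n) = 0 := by
      rw [hP.comm _ (inv_mem h.2) n hn, h0, (F.lin_pn (inv_mem h.2)).zero]
    rw [Subgroup.coe_mul, Subgroup.coe_mul, Subgroup.coe_inv,
      F.pn_mul (mul_mem h.2 g.2) (inv_mem h.2), F.pn_mul h.2 g.2, hg _ (F.pn_lt _ _) hy,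
      ← F.pn_mul h.2 (inv_mem h.2), mul_inv_cancel, F.pn_one hn]
  let M : Subgroup (MulAut A) := K0.map F.rho
  -- `M` has odd order
  have hModd : ∀ y : M, Odd (orderOf y) := by
    intro y
    by_contra heven
    obtain ⟨g, hg, hgy⟩ := y.2
    rw [Nat.not_odd_iff_even] at heven
    obtain ⟨e, r, hr, ho⟩ := Nat.exists_eq_two_pow_mul_odd (orderOf_pos g).ne'
    have hyr : F.rho (g ^ r) ≠ 1 := by
      rw [map_pow, hgy]
      intro h
      rw [orderOf_dvd_iff_pow_eq_one.symm, Subgroup.orderOf_coe] at h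
      exact (Nat.not_even_iff_odd.2 (Odd.of_dvd_nat hr h)) heven
    set g' := g ^ r with hg'
    have hg'2 : IsPGroup 2 (zpowers g') := by
      obtain ⟨l, -, hl⟩ := (Nat.dvd_prime_pow Nat.prime_two).1 (orderOf_dvd_of_pow_eq_one
        (x := g') (n := 2 ^ e) (by rw [hg', ← pow_mul, mul_comm, ← ho, pow_orderOf_eq_one]))
      exact IsPGroup.of_card (by rw [Nat.card_zpowers, hl])
    let SN : Sylow 2 N := S.subtype (fun x hx => F.mem_normalizer_of_mem hx)
    obtain ⟨Q, hQ⟩ := hg'2.exists_le_sylow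
    obtain ⟨h, hh⟩ := MulAction.exists_smul_eq N Q SN
    have hx : h * g' * h⁻¹ ∈ SN := by
      rw [← hh]
      exact ⟨g', hQ (mem_zpowers g'), rfl⟩
    have hxS : ((h * g' * h⁻¹ : N) : G) ∈ (S : Subgroup G) := hx
    have hxK : h * g' * h⁻¹ ∈ K0 := hK0n g' (pow_mem hg r) h
    obtain ⟨i, hi, h0⟩ := F.decompose hxS
    have hi0 : i = 0 := by
      by_contra hne
      obtain ⟨n, hn, hn0, hmove⟩ := hP.ker i hi.1 hne
      have := hxK n hn hn0
      rw [F.pn_acts hi (h * g' * h⁻¹).2 hn] at this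
      exact hmove this
    have h1 : F.rho (h * g' * h⁻¹) = 1 := F.rho_eq_one.2 fun n hn => by
      rw [F.pn_acts hi (h * g' * h⁻¹).2 hn, hi0]
      rfl
    rw [map_mul, map_mul, map_inv, mul_inv_eq_one, mul_eq_left] at h1
    exact hyr h1
  -- conjugation by an involution inverts `M`
  have hinvert : ∀ i, i < 8 → isInv i = true → ∀ w : N, F.Acts w i → ∀ y : M,
      F.rho w * (y : MulAut A) * (F.rho w)⁻¹ = ((y⁻¹ : M) : MulAut A) := by
    intro i hi hinv w hw
    have hcl : ∀ y : M, F.rho w * (y : MulAut A) * (F.rho w)⁻¹ ∈ M := by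
      rintro ⟨_, g, hg, rfl⟩
      exact ⟨w * g * w⁻¹, hK0n g hg w, by simp⟩
    let φ : M →* M :=
      { toFun := fun y => ⟨_, hcl y⟩
        map_one' := Subtype.ext (by simp)
        map_mul' := fun y z => Subtype.ext (by simp [mul_assoc]) }
    have hww : F.rho w * F.rho w = 1 := by
      rw [← map_mul, F.rho_eq_one]
      intro n hn
      rw [Subgroup.coe_mul, F.pn_mul w.2 w.2, F.pn_acts hw w.2 hn,
        F.pn_acts hw w.2 (act_spec hi hn).1]
      simp only [isInv, Bool.and_eq_true, List.all_eq_true, List.mem_range] at hinv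
      exact Nat.eq_of_beq_eq_true (hinv.2 n hn)
    have hinvol : Function.Involutive φ := fun y => Subtype.ext (by
      show F.rho w * (F.rho w * (y : MulAut A) * (F.rho w)⁻¹) * (F.rho w)⁻¹ = y
      rw [show (F.rho w)⁻¹ = F.rho w from inv_eq_of_mul_eq_one_right hww]
      calc F.rho w * (F.rho w * (y : MulAut A) * F.rho w) * F.rho w
          = (F.rho w * F.rho w) * (y : MulAut A) * (F.rho w * F.rho w) := by group
        _ = y := by rw [hww, one_mul, mul_one])
    have hfpf : MonoidHom.FixedPointFree φ := by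
      intro y hy
      have h1 : F.rho w * (y : MulAut A) * (F.rho w)⁻¹ = y := congrArg Subtype.val hy
      obtain ⟨g, hg, hgy⟩ := y.2
      have hgw : F.rho (g * w) = F.rho (w * g) := by
        rw [map_mul, map_mul, hgy]
        exact (mul_inv_eq_iff_eq_mul.1 h1).symm
      have hcomw : ∀ n < 64, F.pn g (act i n) = act i (F.pn g n) := by
        intro n hn
        rw [← F.pn_acts hw w.2 hn, ← F.pn_mul g.2 w.2, ← F.pn_acts hw w.2 (F.pn_lt _ _),
          ← F.pn_mul w.2 g.2]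
        refine F.enc_inj (F.pn_lt _ _) (F.pn_lt _ _) ?_
        rw [F.enc_pn (mul_mem g.2 w.2), F.enc_pn (mul_mem w.2 g.2)]
        exact congrArg Subtype.val (DFunLike.congr_fun hgw ⟨_, F.enc_mem n⟩)
      have hactP : ∀ n < 64, P (act i n) = act i (P n) := fun n hn => by
        rw [← F.pn_acts hw w.2 hn, hP.comm _ w.2 n hn, F.pn_acts hw w.2 (hP.hlin.1 n hn)]
      have h8 : y ^ 8 = 1 := Subtype.ext (by
        rw [Subgroup.coe_pow, ← hgy, ← map_pow, Subgroup.coe_one, F.rho_eq_one]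
        intro n hn
        rw [Subgroup.coe_pow]
        exact hP.pow_eight himg g.2 (fun n hn h0 => hg n hn h0) hi hinv hcomw hactP n hn)
      have hd : orderOf y ∣ 8 := orderOf_dvd_of_pow_eq_one h8
      have hco : Nat.Coprime (orderOf y) 8 :=
        (Nat.coprime_two_right.2 (hModd y)).pow_right 3
      exact orderOf_eq_one_iff.1 (Nat.eq_one_of_dvd_coprimes hco dvd_rfl hd)
    intro y
    exact congrArg Subtype.val (congrFun (hfpf.coe_eq_inv_of_involutive hinvol) y)
  obtain ⟨w1, hw1, ha1⟩ := F.exists_rep 1 (by norm_num)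
  obtain ⟨w7, hw7, ha7⟩ := F.exists_rep 7 (by norm_num)
  have hN1 := F.mem_normalizer_of_mem hw1
  have hN7 := F.mem_normalizer_of_mem hw7
  obtain ⟨l, hl, hl'⟩ := F.acts_mul ha1 ha7
  have h6 : l = 6 := act_inj hl.1 (by norm_num) fun n hn => (hl' n hn).symm.trans (by
    revert n; decide +kernel)
  rw [h6] at hl
  have hM : ∀ y : M, y = 1 := by
    intro y
    have e1 := hinvert 1 (by norm_num) (by decide) ⟨w1, hN1⟩ ha1
    have e7 := hinvert 7 (by norm_num) (by decide) ⟨w7, hN7⟩ ha7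
    have e6 := hinvert 6 (by norm_num) (by decide) ⟨w1 * w7, mul_mem hN1 hN7⟩ hl y
    have e : F.rho ⟨w1 * w7, mul_mem hN1 hN7⟩ = F.rho ⟨w1, hN1⟩ * F.rho ⟨w7, hN7⟩ := by
      rw [← map_mul]; rfl
    rw [e, mul_inv_rev] at e6
    have e17 : F.rho ⟨w1, hN1⟩ * F.rho ⟨w7, hN7⟩ * (y : MulAut A) *
        ((F.rho ⟨w7, hN7⟩)⁻¹ * (F.rho ⟨w1, hN1⟩)⁻¹) = y := by
      calc _ = F.rho ⟨w1, hN1⟩ * (F.rho ⟨w7, hN7⟩ * (y : MulAut A) * (F.rho ⟨w7, hN7⟩)⁻¹) *
            (F.rho ⟨w1, hN1⟩)⁻¹ := by group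
        _ = _ := by rw [e7 y, e1 y⁻¹, inv_inv]
    rw [e17] at e6
    have e6' : y = y⁻¹ := Subtype.ext e6
    have h2 : y ^ 2 = 1 := by rw [pow_two]; nth_rewrite 1 [e6']; exact inv_mul_cancel y
    have hd : orderOf y ∣ 2 := orderOf_dvd_of_pow_eq_one h2
    exact orderOf_eq_one_iff.1
      (Nat.eq_one_of_dvd_coprimes (Nat.coprime_two_right.2 (hModd y)) dvd_rfl hd)
  have h := hM ⟨F.rho ⟨k, hk⟩, ⟨k, hk⟩, hker, rfl⟩
  exact F.rho_eq_one.1 (congrArg Subtype.val h)

/-- A normal subgroup meeting `S` in `A`, centralising the kernel. -/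
theorem Split.le_of_comm {P : ℕ → ℕ} {m : ℕ} (hP : F.Split P m)
    (himg : ∀ n < 64, P n = n → ∃ x < 8, P (x * m) = n)
    (hO : Cfsg.pPrimeCore 2 G = ⊥) (N1 : Subgroup G) [hn : N1.Normal]
    (hcomm : ∀ g ∈ N1, ∀ n < 64, P n = 0 → g * enc F.v n = enc F.v n * g)
    (hfix : ∀ n < 64, P n = n → enc F.v n ∈ N1) :
    N1 ≤ A := by
  haveI : Fact (Nat.Prime 2) := ⟨Nat.prime_two⟩
  have hSA : ∀ g ∈ N1, g ∈ (S : Subgroup G) → g ∈ A := by
    intro g hg hgS
    obtain ⟨i, hi, h0⟩ := F.decompose hgS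
    refine h0 ?_
    by_contra hne
    obtain ⟨n, hn, hn0, hmove⟩ := hP.ker i hi.1 hne
    refine hmove (F.enc_inj (act_spec hi.1 hn).1 hn ?_)
    rw [← hi.2 n hn, hcomm g hg n hn hn0, mul_assoc, mul_inv_cancel, mul_one]
  obtain ⟨Q, hQ0⟩ :=
    (S.2.comap_of_injective N1.subtype N1.subtype_injective).exists_le_sylow
  have hQ : ∀ g : N1, g ∈ Q ↔ (g : G) ∈ (S : Subgroup G) := by
    obtain ⟨u, hu⟩ := F.exists_conj_le (Q.2.map N1.subtype)
    have hconj : ∀ g : N1, u * (g : G) * u⁻¹ ∈ N1 := fun g => hn.conj_mem _ g.2 u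
    let f : ↥(Q : Subgroup N1) → ↥((S : Subgroup G).comap N1.subtype) := fun q =>
      ⟨⟨u * (q.1 : G) * u⁻¹, hconj q.1⟩, hu _ ⟨q.1, q.2, rfl⟩⟩
    have hf : Function.Injective f := fun a b h => by
      have h' : u * ((a.1 : N1) : G) * u⁻¹ = u * ((b.1 : N1) : G) * u⁻¹ :=
        congrArg (fun z => ((z.1 : N1) : G)) h
      exact Subtype.ext (Subtype.ext (mul_left_cancel (mul_right_cancel h')))
    have e := Subgroup.eq_of_le_of_card_ge hQ0 (Nat.card_le_card_of_injective f hf)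
    intro g
    show g ∈ (Q : Subgroup N1) ↔ _
    rw [← e]
    exact Iff.rfl
  have hnc : normalizer ((Q : Subgroup N1) : Set N1) ≤ centralizer ((Q : Subgroup N1) : Set N1) := by
    intro g hg
    have hgA : (g : G) ∈ normalizer (A : Set G) := by
      have hgen : ∀ n < 64, (g : G) * enc F.v n * (g : G)⁻¹ ∈ A := by
        intro n hn
        have hPn := hP.hlin.1 n hn
        have e : n = P n ^^^ (n ^^^ P n) := by
          rw [Nat.xor_comm n, ← Nat.xor_assoc, Nat.xor_self, Nat.zero_xor]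
        have h1 : (g : G) * enc F.v (P n) * (g : G)⁻¹ ∈ A := by
          have hm : (⟨_, hfix _ hPn (hP.idem n hn)⟩ : N1) ∈ (Q : Subgroup N1) :=
            (hQ _).2 (F.hle (F.enc_mem _))
          have := (hQ _).1 ((mem_normalizer_iff.1 hg _).1 hm)
          exact F.strongly_closed (F.enc_mem _) this
        have h2 : (g : G) * enc F.v (n ^^^ P n) * (g : G)⁻¹ ∈ A := by
          rw [hcomm g g.2 _ (xor_lt hn hPn) (by
            rw [hP.hlin.2 n hn _ hPn, hP.idem n hn, Nat.xor_self]), mul_assoc, mul_inv_cancel,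
            mul_one]
          exact F.enc_mem _
        rw [e, F.enc_xor]
        simpa [mul_assoc] using mul_mem h1 h2
      let f : A → A := fun a => ⟨(g : G) * a * (g : G)⁻¹, by
        obtain ⟨n, hn, he⟩ := F.exists_enc a.2
        exact he ▸ hgen n hn⟩
      have hf : Function.Injective f := fun a b h => by
        have h' : (g : G) * a * (g : G)⁻¹ = g * b * (g : G)⁻¹ := congrArg Subtype.val h
        exact Subtype.ext (mul_left_cancel (mul_right_cancel h'))
      refine mem_normalizer_iff.2 fun a => ⟨fun ha => (f ⟨a, ha⟩).2, fun ha => ?_⟩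
      obtain ⟨b, hb⟩ := (Finite.injective_iff_bijective.1 hf).2 ⟨_, ha⟩
      have h' : (g : G) * b * (g : G)⁻¹ = g * a * (g : G)⁻¹ := congrArg Subtype.val hb
      rw [← mul_left_cancel (mul_right_cancel h')]
      exact b.2
    have h1 := hP.centralize himg hgA fun n hn h0 => F.enc_inj (F.pn_lt _ _) hn (by
      rw [F.enc_pn hgA, hcomm g g.2 n hn h0, mul_assoc, mul_inv_cancel, mul_one])
    rw [mem_centralizer_iff]
    intro q hq
    obtain ⟨n, hn, he⟩ := F.exists_enc (hSA _ q.2 ((hQ q).1 hq))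
    apply Subtype.ext
    show (q : G) * g = g * q
    rw [← he]
    have := F.enc_pn hgA n
    rw [h1 n hn] at this
    exact (mul_inv_eq_iff_eq_mul.1 this.symm).symm
  set K := (MonoidHom.transferSylow Q hnc).ker
  have hKodd : ¬ 2 ∣ Nat.card K := MonoidHom.not_dvd_card_ker_transferSylow Q hnc
  have hKchar : K.Characteristic := by
    refine Subgroup.characteristic_iff_map_le.2 fun φ => ?_
    rintro _ ⟨x, hx, rfl⟩
    -- the image of an element of odd order is killed by the transfer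
    have hxo : Odd (orderOf x) := by
      refine Odd.of_dvd_nat (Nat.odd_iff.2 ?_) (Subgroup.orderOf_dvd_natCard K hx)
      omega
    show MonoidHom.transferSylow Q hnc (φ x) = 1
    obtain ⟨e, he⟩ := IsPGroup.iff_orderOf.1 Q.2 (MonoidHom.transferSylow Q hnc (φ x))
    refine orderOf_eq_one_iff.1 (Nat.eq_one_of_dvd_coprimes
      ((Nat.coprime_two_left.2 hxo).pow_left e) (he ▸ dvd_rfl) ?_)
    exact (orderOf_map_dvd _ (φ x)).trans (by rw [MulEquiv.orderOf_eq])
  haveI := hKchar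
  have hKn : (K.map N1.subtype).Normal := inferInstance
  have hK1 : K = ⊥ := by
    have hle : K.map N1.subtype ≤ Cfsg.pPrimeCore 2 G := le_sSup ⟨hKn, by
      rw [Nat.card_congr (K.equivMapOfInjective N1.subtype N1.subtype_injective).toEquiv.symm,
        Nat.coprime_two_right, Nat.odd_iff]
      omega⟩
    rw [hO, le_bot_iff, map_eq_bot_iff_of_injective _ N1.subtype_injective] at hle
    exact hle
  have htop : (Q : Subgroup N1) = ⊤ := by
    have h := MonoidHom.ker_transferSylow_isComplement' Q hnc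
    rw [show (MonoidHom.transferSylow Q hnc).ker = ⊥ from hK1] at h
    exact Subgroup.isComplement'_bot_left.1 h
  intro g hg
  refine hSA g hg ((hQ ⟨g, hg⟩).1 ?_)
  show (⟨g, hg⟩ : N1) ∈ (Q : Subgroup N1)
  rw [htop]
  exact mem_top _

variable (F)

/-- The abelian subgroup is normal. -/
theorem normal_of_oddCore (hO : Cfsg.pPrimeCore 2 G = ⊥) :
    A.Normal := by
  obtain ⟨hl, hc, hid, hnz, hker⟩ := F.proj_spec
  let P' : ℕ → ℕ := fun n => n ^^^ F.proj n
  have hl' : Lin P' := ⟨fun n hn => xor_lt hn (hl.1 n hn), fun n hn k hk => by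
    show (n ^^^ k) ^^^ F.proj (n ^^^ k) = (n ^^^ F.proj n) ^^^ (k ^^^ F.proj k)
    rw [hl.2 n hn k hk]
    simp only [Nat.xor_assoc, Nat.xor_left_comm]⟩
  have h0 : ∀ n < 64, P' n = 0 ↔ F.proj n = n := fun n _ =>
    ⟨fun h => (Nat.xor_eq_zero_iff.1 h).symm, fun h => Nat.xor_eq_zero_iff.2 h.symm⟩
  have h1 : ∀ n < 64, P' n = n ↔ F.proj n = 0 := fun n _ => by
    constructor
    · intro h
      have := congrArg (n ^^^ ·) h
      simpa [P', ← Nat.xor_assoc] using this
    · intro h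
      simp [P', h]
  have hP : F.Split F.proj 1 :=
    ⟨hl, hc, hid, Or.inl rfl, fun x hx hx0 => by rw [mul_one]; exact (hnz x hx hx0).1,
      fun i hi hi0 => (hker i hi hi0).1⟩
  have hP' : F.Split P' 8 :=
    { hlin := hl'
      comm := fun h hh n hn => by
        show F.pn h n ^^^ F.proj (F.pn h n) = F.pn h (n ^^^ F.proj n)
        rw [hc h hh n hn, (F.lin_pn hh).2 n hn _ (hl.1 n hn)]
      idem := fun n hn => by
        refine (h1 _ (hl'.1 n hn)).2 ?_
        show F.proj (n ^^^ F.proj n) = 0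
        rw [hl.2 n hn _ (hl.1 n hn), hid n hn, Nat.xor_self]
      hm := Or.inr rfl
      inj := fun x hx hx0 h => (hnz x hx hx0).2 ((h0 _ (by omega)).1 h)
      ker := fun i hi hi0 => by
        obtain ⟨n, hn, hf, hmove⟩ := (hker i hi hi0).2
        exact ⟨n, hn, (h0 n hn).2 hf, hmove⟩ }
  have himg := hP.image_eq ⟨8, Or.inr rfl, fun x hx hx0 => (hnz x hx hx0).2⟩
  have himg' := hP'.image_eq ⟨1, Or.inl rfl, fun x hx hx0 h => (hnz x hx hx0).1 (by
    rw [mul_one] at h
    exact (h1 x (by omega)).1 h)⟩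
  set A1 := F.imgSub F.proj hl
  set A2 := F.imgSub P' hl'
  have hctx : ProdFusion.Ctx S A1 A2 :=
    { sa := F.imgSub_closed hl hc
      sb := F.imgSub_closed hl' hP'.comm
      comm := fun a ha b hb => F.comm a (F.imgSub_le _ _ ha) b (F.imgSub_le _ _ hb)
      disj := by
        rw [Subgroup.eq_bot_iff_forall]
        rintro x ⟨⟨n, hn, hf, rfl⟩, k, hk, hk', he⟩
        have := F.enc_inj hk hn he
        subst this
        rw [(h1 k hk).1 hk'] at hf
        rw [← hf, F.enc_zero] }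
  have hcm := ProdFusion.product_fusion hO S A1 A2 hctx
  rw [commutator_eq_bot_iff_le_centralizer] at hcm
  set N1 := normalClosure (A1 : Set G)
  set N2 := normalClosure (A2 : Set G)
  have hle1 : N1 ≤ A := hP.le_of_comm himg hO N1
    (fun g hg n hn h => (mem_centralizer_iff.1 (hcm hg) _
      (subset_normalClosure ⟨n, hn, (h1 n hn).2 h, rfl⟩)).symm)
    (fun n hn h => subset_normalClosure ⟨n, hn, h, rfl⟩)
  have hle2 : N2 ≤ A := hP'.le_of_comm himg' hO N2
    (fun g hg n hn h => mem_centralizer_iff.1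
      (hcm (subset_normalClosure (show enc F.v n ∈ A1 from ⟨n, hn, (h0 n hn).1 h, rfl⟩))) g hg)
    (fun n hn h => subset_normalClosure ⟨n, hn, h, rfl⟩)
  have hA : A = N1 ⊔ N2 := by
    refine le_antisymm (fun a ha => ?_) (sup_le hle1 hle2)
    obtain ⟨n, hn, rfl⟩ := F.exists_enc ha
    have e : n = F.proj n ^^^ (n ^^^ F.proj n) := by
      rw [Nat.xor_comm n, ← Nat.xor_assoc, Nat.xor_self, Nat.zero_xor]
    rw [e, F.enc_xor]
    exact mul_mem
      (SetLike.le_def.1 le_sup_left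
        (subset_normalClosure ⟨_, hl.1 n hn, hid n hn, rfl⟩))
      (SetLike.le_def.1 le_sup_right
        (subset_normalClosure ⟨_, hl'.1 n hn, hP'.idem n hn, rfl⟩))
  rw [hA]
  infer_instance

end Frame

end Cfsg.Agent.M24Type
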